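import Cfsg.Agent.H95.J4T.Frame

/-!
The interface between the model of the normalizer of the elementary group of order `2 ^ 11` and the
counting in the self-centralising elementary group of order `2 ^ 10`.
-/

set_option autoImplicit false

namespace H82.J4A10

open Subgroup

variable {G : Type*} [Group G]

/-- Elementary abelian of order `2 ^ 10` and self-centralising. -/
structure IsTen (A : Subgroup G) : Prop where
  elem : Cfsg.IsElementaryAbelian 2 A
  card_A : Nat.card A = 2 ^ 10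
  cent : centralizer (A : Set G) = A

/-- Elementary abelian of order `2 ^ 11`. -/
structure IsEleven (V : Subgroup G) : Prop where
  elem : Cfsg.IsElementaryAbelian 2 V
  card_V : Nat.card V = 2 ^ 11

/-- The facts about a self-centralising `A` inside the normalizer of `V`. -/
structure Pos (z : G) (V A : Subgroup G) : Prop where
  meet : Nat.card ↥(A ⊓ V) = 2 ^ 6
  pairs : {u : G | u ∈ A ⊓ V ∧ u ≠ 1 ∧ ¬ IsConj z u}.ncard = 28
  trans_z : ∀ u ∈ A ⊓ V, IsConj z u → ∀ v ∈ A ⊓ V, IsConj z v →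
    ∃ n ∈ normalizer (A : Set G) ⊓ normalizer (V : Set G), n * u * n⁻¹ = v
  trans_t : ∀ u ∈ A ⊓ V, u ≠ 1 → ¬ IsConj z u → ∀ v ∈ A ⊓ V, v ≠ 1 → ¬ IsConj z v →
    ∃ n ∈ normalizer (A : Set G) ⊓ normalizer (V : Set G), n * u * n⁻¹ = v
  outside : ∃ S₀ S₁ : Set G, S₀ ∪ S₁ = (A : Set G) \ (V : Set G) ∧ S₀.ncard = 120 ∧
    S₁.ncard = 840 ∧ (∀ u ∈ S₀, ∀ v ∈ S₀, IsConj u v) ∧ ∀ u ∈ S₁, ∀ v ∈ S₁, IsConj u v

/-- What the model provides. -/
structure Model (z : G) : Prop where
  exists_ten : ∃ V A : Subgroup G, IsEleven V ∧ IsTen A ∧ A ≤ normalizer (V : Set G)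
  pos : ∀ V A : Subgroup G, IsEleven V → IsTen A → A ≤ normalizer (V : Set G) → Pos z V A
  conj : ∀ V A V' A' : Subgroup G, IsEleven V → IsTen A → A ≤ normalizer (V : Set G) →
    IsEleven V' → IsTen A' → A' ≤ normalizer (V' : Set G) →
    ∃ g : G, V.map (MulAut.conj g).toMonoidHom = V' ∧ A.map (MulAut.conj g).toMonoidHom = A'

end H82.J4A10
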