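import Cfsg.Agent.H82.J4A10.Basic

/-!
Counting inside a self-centralising elementary subgroup `A` of order `2 ^ 10`: the two classes, the
31 subgroups of order `2 ^ 11` normalized by `A`, and the two orbits of the normalizer.
-/

set_option autoImplicit false

namespace H82.J4A10

open Subgroup

variable {G : Type*} [Group G]

/-- The subgroups of order `2 ^ 11` normalized by `A`. -/
def elevens (A : Subgroup G) : Set (Subgroup G) :=
  {V | IsEleven V ∧ A ≤ normalizer (V : Set G)}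

/-- The elements of `A` conjugate to `z`. -/
def zSet (z : G) (A : Subgroup G) : Set G := {u | u ∈ A ∧ IsConj z u}

/-- The elements of `A` other than one not conjugate to `z`. -/
def tSet (z : G) (A : Subgroup G) : Set G := {u | u ∈ A ∧ u ≠ 1 ∧ ¬ IsConj z u}

theorem mem_map_conj {n x : G} {K : Subgroup G} :
    x ∈ K.map (MulAut.conj n).toMonoidHom ↔ n⁻¹ * x * n ∈ K := by
  constructor
  · rintro ⟨y, hy, rfl⟩
    rwa [show n⁻¹ * (MulAut.conj n).toMonoidHom y * n = y by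
      show n⁻¹ * (n * y * n⁻¹) * n = y
      group]
  · intro h
    exact ⟨_, h, by show n * (n⁻¹ * x * n) * n⁻¹ = x; group⟩

theorem map_conj_eq_iff {n : G} {K : Subgroup G} :
    K.map (MulAut.conj n).toMonoidHom = K ↔ n ∈ normalizer (K : Set G) := by
  constructor
  · intro h
    refine mem_normalizer_iff.2 fun x => ?_
    conv_rhs => rw [← h]
    rw [mem_map_conj, show n⁻¹ * (n * x * n⁻¹) * n = x by group]
  · intro h
    ext x
    rw [mem_map_conj]
    exact (mem_normalizer_iff''.1 h x).symm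

theorem map_conj_mul {n m : G} {K : Subgroup G} :
    K.map (MulAut.conj (n * m)).toMonoidHom =
      (K.map (MulAut.conj m).toMonoidHom).map (MulAut.conj n).toMonoidHom := by
  ext x
  rw [mem_map_conj, mem_map_conj, mem_map_conj,
    show m⁻¹ * (n⁻¹ * x * n) * m = (n * m)⁻¹ * x * (n * m) by group]

theorem map_conj_one {K : Subgroup G} : K.map (MulAut.conj (1 : G)).toMonoidHom = K := by
  ext x
  rw [mem_map_conj]
  simp

theorem conj_not_isConj {z u g : G} (h : ¬ IsConj z u) : ¬ IsConj z (g * u * g⁻¹) := fun e =>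
  h (e.trans (isConj_iff.2 ⟨g⁻¹, by group⟩))

variable {z : G} {A : Subgroup G}

theorem conj_mem_A {n : G} (hn : n ∈ normalizer (A : Set G)) {u : G} (hu : u ∈ A) :
    n * u * n⁻¹ ∈ A :=
  (mem_normalizer_iff.1 hn u).1 hu

theorem conj_zSet {n : G} (hn : n ∈ normalizer (A : Set G)) {u : G} (hu : u ∈ zSet z A) :
    n * u * n⁻¹ ∈ zSet z A :=
  ⟨conj_mem_A hn hu.1, conj_isConj hu.2⟩

theorem conj_tSet {n : G} (hn : n ∈ normalizer (A : Set G)) {u : G} (hu : u ∈ tSet z A) :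
    n * u * n⁻¹ ∈ tSet z A :=
  ⟨conj_mem_A hn hu.1, fun h => hu.2.1 (conj_eq_one_iff.1 h), conj_not_isConj hu.2.2⟩

/-- The normalizer of `A` is transitive on the subgroups of order `2 ^ 11` it normalizes. -/
theorem trans_elevens (M : Model z) (hA : IsTen A) {V V' : Subgroup G} (hV : V ∈ elevens A)
    (hV' : V' ∈ elevens A) :
    ∃ n ∈ normalizer (A : Set G), V.map (MulAut.conj n).toMonoidHom = V' := by
  obtain ⟨g, h1, h2⟩ := M.conj V A V' A hV.1 hA hV.2 hV'.1 hA hV'.2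
  exact ⟨g, map_conj_eq_iff.1 h2, h1⟩

variable [Finite G] [IsSimpleGroup G]

/-- Elements of `A` conjugate to `z` are conjugate in the normalizer. -/
theorem trans_zSet (hG : ¬ IsMulCommutative G) (hJ : Cfsg.IsOfJankoFourTypeAt z) (M : Model z)
    (hA : IsTen A) {u v : G} (hu : u ∈ zSet z A) (hv : v ∈ zSet z A) :
    ∃ n ∈ normalizer (A : Set G), n * u * n⁻¹ = v := by
  obtain ⟨V, hV, hAV, huV⟩ := exists_meet_z hG hJ hA hu.1 hu.2
  obtain ⟨V', hV', hAV', hvV⟩ := exists_meet_z hG hJ hA hv.1 hv.2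
  obtain ⟨n, hn, rfl⟩ := trans_elevens M hA ⟨hV, hAV⟩ ⟨hV', hAV'⟩
  have hw : n * u * n⁻¹ ∈ A ⊓ V.map (MulAut.conj n).toMonoidHom :=
    mem_inf.2 ⟨conj_mem_A hn hu.1, ⟨u, huV, rfl⟩⟩
  obtain ⟨m, hm, hmv⟩ := (M.pos _ A hV' hA hAV').trans_z _ hw (conj_isConj hu.2) v
    (mem_inf.2 ⟨hv.1, hvV⟩) hv.2
  refine ⟨m * n, (normalizer (A : Set G)).mul_mem (mem_inf.1 hm).1 hn, ?_⟩
  rw [← hmv]; group

/-- Elements of `A` not conjugate to `z` are conjugate in the normalizer. -/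
theorem trans_tSet (hG : ¬ IsMulCommutative G) (hJ : Cfsg.IsOfJankoFourTypeAt z) (M : Model z)
    (hA : IsTen A) {u v : G} (hu : u ∈ tSet z A) (hv : v ∈ tSet z A) :
    ∃ n ∈ normalizer (A : Set G), n * u * n⁻¹ = v := by
  obtain ⟨V, hV, hAV, huV⟩ := exists_meet_t hG hJ hA hu.1 hu.2.1 hu.2.2
  obtain ⟨V', hV', hAV', hvV⟩ := exists_meet_t hG hJ hA hv.1 hv.2.1 hv.2.2
  obtain ⟨n, hn, rfl⟩ := trans_elevens M hA ⟨hV, hAV⟩ ⟨hV', hAV'⟩
  have hw : n * u * n⁻¹ ∈ A ⊓ V.map (MulAut.conj n).toMonoidHom :=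
    mem_inf.2 ⟨conj_mem_A hn hu.1, ⟨u, huV, rfl⟩⟩
  obtain ⟨m, hm, hmv⟩ := (M.pos _ A hV' hA hAV').trans_t _ hw (conj_tSet hn hu).2.1
    (conj_tSet hn hu).2.2 v (mem_inf.2 ⟨hv.1, hvV⟩) hv.2.1 hv.2.2
  refine ⟨m * n, (normalizer (A : Set G)).mul_mem (mem_inf.1 hm).1 hn, ?_⟩
  rw [← hmv]; group

theorem orbit_zSet (hG : ¬ IsMulCommutative G) (hJ : Cfsg.IsOfJankoFourTypeAt z) (M : Model z)
    (hA : IsTen A) {u : G} (hu : u ∈ zSet z A) :
    {v : G | ∃ n ∈ normalizer (A : Set G), n * u * n⁻¹ = v} = zSet z A :=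
  Set.ext fun v => ⟨fun ⟨_, hn, h⟩ => h ▸ conj_zSet hn hu, trans_zSet hG hJ M hA hu⟩

theorem orbit_tSet (hG : ¬ IsMulCommutative G) (hJ : Cfsg.IsOfJankoFourTypeAt z) (M : Model z)
    (hA : IsTen A) {u : G} (hu : u ∈ tSet z A) :
    {v : G | ∃ n ∈ normalizer (A : Set G), n * u * n⁻¹ = v} = tSet z A :=
  Set.ext fun v => ⟨fun ⟨_, hn, h⟩ => h ▸ conj_tSet hn hu, trans_tSet hG hJ M hA hu⟩

omit [IsSimpleGroup G] in
theorem card_sets (hJ : Cfsg.IsOfJankoFourTypeAt z) (hA : IsTen A) :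
    (zSet z A).ncard + (tSet z A).ncard = 1023 := by
  have hz1 : z ≠ 1 := fun h => by
    obtain ⟨P, hP⟩ := hJ
    simpa [h] using hP.1
  have hd : Disjoint (zSet z A) (tSet z A) :=
    Set.disjoint_left.2 fun u hu hu' => hu'.2.2 hu.2
  have hun : zSet z A ∪ tSet z A = (A : Set G) \ {1} := by
    ext u
    simp only [zSet, tSet, Set.mem_union, Set.mem_ofPred_eq, Set.mem_sdiff, SetLike.mem_coe,
      Set.mem_singleton_iff]
    constructor
    · rintro (⟨h1, h2⟩ | ⟨h1, h2, -⟩)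
      · exact ⟨h1, fun h => hz1 (isConj_one_left.1 (h ▸ h2))⟩
      · exact ⟨h1, h2⟩
    · rintro ⟨h1, h2⟩
      by_cases h : IsConj z u
      · exact Or.inl ⟨h1, h⟩
      · exact Or.inr ⟨h1, h2, h⟩
  rw [← Set.ncard_union_eq hd, hun, Set.ncard_sdiff_singleton_of_mem A.one_mem,
    ← Nat.card_coe_set_eq]
  rw [show Nat.card ↥(A : Set G) = Nat.card A from rfl, hA.card_A]
  norm_num

/-- The set of elements not conjugate to `z` is the disjoint union of the sets in the meets. -/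
theorem card_tSet_eq (hG : ¬ IsMulCommutative G) (hJ : Cfsg.IsOfJankoFourTypeAt z) (M : Model z)
    (hA : IsTen A) : (tSet z A).ncard = 28 * (elevens A).ncard := by
  classical
  set f : Subgroup G → Finset G := fun V => ({u : G | u ∈ A ⊓ V ∧ u ≠ 1 ∧ ¬ IsConj z u} :
    Set G).toFinite.toFinset with hf
  have hmem : ∀ V u, u ∈ f V ↔ u ∈ A ⊓ V ∧ u ≠ 1 ∧ ¬ IsConj z u := fun V u => by
    simp [hf]
  have hsets : (tSet z A).toFinite.toFinset = (elevens A).toFinite.toFinset.biUnion f := by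
    ext u
    simp only [Set.Finite.mem_toFinset, Finset.mem_biUnion, hmem]
    constructor
    · intro hu
      obtain ⟨V, hV, hAV, huV⟩ := exists_meet_t hG hJ hA hu.1 hu.2.1 hu.2.2
      exact ⟨V, ⟨hV, hAV⟩, mem_inf.2 ⟨hu.1, huV⟩, hu.2⟩
    · rintro ⟨V, -, h1, h2⟩
      exact ⟨(mem_inf.1 h1).1, h2⟩
  rw [Set.ncard_eq_toFinset_card _, hsets, Finset.card_biUnion]
  · rw [Finset.sum_congr rfl (g := fun _ => 28), Finset.sum_const, smul_eq_mul, mul_comm,
      ← Set.ncard_eq_toFinset_card _]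
    intro V hV
    rw [Set.Finite.mem_toFinset] at hV
    rw [hf, ← Set.ncard_eq_toFinset_card _]
    exact (M.pos V A hV.1 hA hV.2).pairs
  · intro V hV V' hV' hne
    rw [Function.onFun, Finset.disjoint_left]
    intro u hu hu'
    rw [hmem] at hu hu'
    rw [Finset.mem_coe, Set.Finite.mem_toFinset] at hV hV'
    exact hne (unique_meet_t hG hJ hV.1 hV'.1 (mem_inf.1 hu.1).2 (mem_inf.1 hu'.1).2 hu.2.1
      hu.2.2).symm

omit [IsSimpleGroup G] in
theorem card_diff (M : Model z) (hA : IsTen A) {V : Subgroup G} (hV : V ∈ elevens A) :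
    ((A : Set G) \ (V : Set G)).ncard = 960 := by
  have h1 : ((A : Set G) \ ((A ⊓ V : Subgroup G) : Set G)).ncard =
      (A : Set G).ncard - ((A ⊓ V : Subgroup G) : Set G).ncard :=
    Set.ncard_sdiff (inf_le_left : A ⊓ V ≤ A) (Set.toFinite _)
  rw [coe_inf, Set.sdiff_self_inter, ← Nat.card_coe_set_eq (A : Set G)] at h1
  rw [h1, show Nat.card ↥(A : Set G) = Nat.card A from rfl, hA.card_A, ← coe_inf,
    ← Nat.card_coe_set_eq, show Nat.card ↥((A ⊓ V : Subgroup G) : Set G) = Nat.card ↥(A ⊓ V) from rfl,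
    (M.pos V A hV.1 hA hV.2).meet]
  norm_num

/-- The counts, with the type of the two classes outside a meet. -/
theorem counts_at (hG : ¬ IsMulCommutative G) (hJ : Cfsg.IsOfJankoFourTypeAt z) (M : Model z)
    (hA : IsTen A) {V : Subgroup G} (hV : V ∈ elevens A) {S₀ S₁ : Set G}
    (hun : S₀ ∪ S₁ = (A : Set G) \ (V : Set G)) (h₀ : S₀.ncard = 120) (h₁ : S₁.ncard = 840)
    (hc₀ : ∀ u ∈ S₀, ∀ v ∈ S₀, IsConj u v) (hc₁ : ∀ u ∈ S₁, ∀ v ∈ S₁, IsConj u v) :
    ((tSet z A).ncard = 868 ∧ (zSet z A).ncard = 155 ∧ (elevens A).ncard = 31) ∧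
      (∀ u ∈ S₀, IsConj z u) ∧ (∀ u ∈ S₁, ¬ IsConj z u) := by
  have hinter : S₀ ∩ S₁ = ∅ := by
    have := Set.ncard_union_add_ncard_inter S₀ S₁
    rw [hun, card_diff M hA hV, h₀, h₁] at this
    exact (Set.ncard_eq_zero).1 (by omega)
  have hsub₀ : ∀ u ∈ S₀, u ∈ A ∧ u ∉ V := fun u hu => by
    have : u ∈ S₀ ∪ S₁ := Or.inl hu
    rwa [hun] at this
  have hsub₁ : ∀ u ∈ S₁, u ∈ A ∧ u ∉ V := fun u hu => by
    have : u ∈ S₀ ∪ S₁ := Or.inr hu
    rwa [hun] at this
  have alt : ∀ S : Set G, (∀ u ∈ S, u ∈ A ∧ u ∉ V) → (∀ u ∈ S, ∀ v ∈ S, IsConj u v) →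
      ((∀ u ∈ S, IsConj z u) ∧ tSet z A ∩ S = ∅) ∨
        ((∀ u ∈ S, ¬ IsConj z u) ∧ tSet z A ∩ S = S) := by
    intro S hsub hc
    by_cases h : ∀ u ∈ S, IsConj z u
    · exact Or.inl ⟨h, Set.eq_empty_iff_forall_notMem.2 fun u hu => hu.1.2.2 (h u hu.2)⟩
    · push Not at h
      obtain ⟨u, hu, huz⟩ := h
      have hall : ∀ v ∈ S, ¬ IsConj z v := fun v hv e => huz (e.trans (hc v hv u hu))
      exact Or.inr ⟨hall, Set.inter_eq_right.2 fun v hv =>
        ⟨(hsub v hv).1, fun e => (hsub v hv).2 (e ▸ V.one_mem), hall v hv⟩⟩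
  set P := {u : G | u ∈ A ⊓ V ∧ u ≠ 1 ∧ ¬ IsConj z u} with hP
  have hpairs : P.ncard = 28 := (M.pos V A hV.1 hA hV.2).pairs
  have hsplit : tSet z A = P ∪ (tSet z A ∩ S₀ ∪ tSet z A ∩ S₁) := by
    ext u
    rw [← Set.inter_union_distrib_left, hun]
    simp only [hP, tSet, Set.mem_union, Set.mem_inter_iff, Set.mem_ofPred_eq, Set.mem_sdiff,
      SetLike.mem_coe, mem_inf]
    tauto
  have hd₁ : Disjoint P (tSet z A ∩ S₀ ∪ tSet z A ∩ S₁) := Set.disjoint_left.2 fun u hu h => by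
    rcases h with ⟨-, h⟩ | ⟨-, h⟩
    · exact (hsub₀ u h).2 (mem_inf.1 hu.1).2
    · exact (hsub₁ u h).2 (mem_inf.1 hu.1).2
  have hd₂ : Disjoint (tSet z A ∩ S₀) (tSet z A ∩ S₁) :=
    Set.disjoint_left.2 fun u hu h => (Set.eq_empty_iff_forall_notMem.1 hinter) u ⟨hu.2, h.2⟩
  have htot : (tSet z A).ncard =
      28 + ((tSet z A ∩ S₀).ncard + (tSet z A ∩ S₁).ncard) := by
    conv_lhs => rw [hsplit]
    rw [Set.ncard_union_eq hd₁, Set.ncard_union_eq hd₂, hpairs]
  have h28 := card_tSet_eq hG hJ M hA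
  have hsum := card_sets hJ hA
  rcases alt S₀ hsub₀ hc₀ with ⟨hz₀, e₀⟩ | ⟨-, e₀⟩ <;>
    rcases alt S₁ hsub₁ hc₁ with ⟨hz₁, e₁⟩ | ⟨hz₁, e₁⟩ <;>
    simp only [e₀, e₁, Set.ncard_empty, h₀, h₁] at htot
  · -- all elements outside the meet conjugate to `z`: then `A` would normalize only one `V`
    exfalso
    have hone : (elevens A).ncard = 1 := by omega
    obtain ⟨W, hW⟩ := Set.ncard_eq_one.1 hone
    have hfix : ∀ n ∈ normalizer (A : Set G), n ∈ normalizer (V : Set G) := by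
      intro n hn
      refine map_conj_eq_iff.1 ?_
      have hmem : V.map (MulAut.conj n).toMonoidHom ∈ elevens A := by
        refine ⟨hV.1.map n, fun a ha => ?_⟩
        refine le_normalizer_map _ ⟨n⁻¹ * a * n, hV.2 ((mem_normalizer_iff''.1 hn a).1 ha), ?_⟩
        show n * (n⁻¹ * a * n) * n⁻¹ = a
        group
      rw [hW, Set.mem_singleton_iff] at hmem
      rw [hW, Set.mem_singleton_iff] at hV
      rw [hmem, hV]
    obtain ⟨u, hu⟩ := Set.nonempty_of_ncard_ne_zero (s := S₀) (by omega)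
    obtain ⟨w, hw, hwz⟩ : ∃ w ∈ A ⊓ V, IsConj z w := by
      by_contra h
      push Not at h
      have hsub : ((A ⊓ V : Subgroup G) : Set G) ⊆ insert 1 P := fun w hw => by
        by_cases h1 : w = 1
        · exact Or.inl h1
        · exact Or.inr ⟨hw, h1, h w hw⟩
      have := (Set.ncard_le_ncard hsub (Set.toFinite _)).trans (Set.ncard_insert_le _ _)
      rw [← Nat.card_coe_set_eq, hpairs] at this
      have hm := (M.pos V A hV.1 hA hV.2).meet
      change Nat.card ↥(A ⊓ V) ≤ 28 + 1 at this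
      omega
    obtain ⟨n, hn, hnu⟩ := trans_zSet hG hJ M hA (u := w) (v := u) ⟨(mem_inf.1 hw).1, hwz⟩
      ⟨(hsub₀ u hu).1, hz₀ u hu⟩
    exact (hsub₀ u hu).2 (hnu ▸ (mem_normalizer_iff.1 (hfix n hn) w).1 (mem_inf.1 hw).2)
  · exact ⟨⟨by omega, by omega, by omega⟩, hz₀, hz₁⟩
  · omega
  · omega

theorem counts (hG : ¬ IsMulCommutative G) (hJ : Cfsg.IsOfJankoFourTypeAt z) (M : Model z)
    (hA : IsTen A) :
    (tSet z A).ncard = 868 ∧ (zSet z A).ncard = 155 ∧ (elevens A).ncard = 31 := by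
  obtain ⟨V, hV⟩ := exists_eleven hJ hA
  obtain ⟨S₀, S₁, hun, h₀, h₁, hc₀, hc₁⟩ := (M.pos V A hV.1 hA hV.2).outside
  exact (counts_at hG hJ M hA hV hun h₀ h₁ hc₀ hc₁).1

/-- The order of the normalizer of `A`. -/
theorem card_normalizer (hG : ¬ IsMulCommutative G) (hJ : Cfsg.IsOfJankoFourTypeAt z) (M : Model z)
    (hA : IsTen A) {V : Subgroup G} (hV : V ∈ elevens A) :
    Nat.card ↥(normalizer (A : Set G)) =
      31 * Nat.card ↥(normalizer (A : Set G) ⊓ normalizer (V : Set G)) := by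
  set N := normalizer (A : Set G) with hN
  set S := (normalizer (V : Set G)).subgroupOf N with hS
  have hrespect : ∀ a b : ↥N, QuotientGroup.leftRel S a b →
      V.map (MulAut.conj (a : G)).toMonoidHom = V.map (MulAut.conj (b : G)).toMonoidHom := by
    intro a b hab
    rw [QuotientGroup.leftRel_apply] at hab
    have hb : (b : G) = (a : G) * ((a⁻¹ * b : ↥N) : G) := by simp
    rw [hb, map_conj_mul, map_conj_eq_iff.2 (mem_subgroupOf.1 hab)]
  let f : ↥N ⧸ S → ↥(elevens A) := fun q =>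
    ⟨Quotient.liftOn' q (fun a => V.map (MulAut.conj (a : G)).toMonoidHom) hrespect, by
      induction q using Quotient.inductionOn' with
      | h a =>
        refine ⟨hV.1.map (a : G), fun x hx => ?_⟩
        refine le_normalizer_map _ ⟨(a : G)⁻¹ * x * a,
          hV.2 ((mem_normalizer_iff''.1 (hN ▸ a.2) x).1 hx), ?_⟩
        show (a : G) * ((a : G)⁻¹ * x * a) * (a : G)⁻¹ = x
        group⟩
  have hinj : Function.Injective f := by
    intro p q h
    induction p using Quotient.inductionOn' with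
    | h a =>
      induction q using Quotient.inductionOn' with
      | h b =>
        have h' : V.map (MulAut.conj (a : G)).toMonoidHom = V.map (MulAut.conj (b : G)).toMonoidHom :=
          congrArg Subtype.val h
        refine Quotient.sound' (QuotientGroup.leftRel_apply.2 (mem_subgroupOf.2 ?_))
        refine map_conj_eq_iff.1 ?_
        rw [coe_mul, coe_inv, map_conj_mul, ← h', ← map_conj_mul, inv_mul_cancel, map_conj_one]
  have hsurj : Function.Surjective f := fun W => by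
    obtain ⟨n, hn, hnW⟩ := trans_elevens M hA hV W.2
    exact ⟨Quotient.mk'' ⟨n, hn⟩, Subtype.ext hnW⟩
  have hindex : S.index = 31 := by
    rw [index, Nat.card_eq_of_bijective f ⟨hinj, hsurj⟩, Nat.card_coe_set_eq]
    exact (counts hG hJ M hA).2.2
  rw [← S.card_mul_index, hindex, mul_comm,
    Nat.card_congr (subgroupOfEquivOfLe (inf_le_left : N ⊓ normalizer (V : Set G) ≤ N)).toEquiv.symm,
    inf_subgroupOf_left]

/-- The normalizer leaves no proper non-trivial subgroup of `A` invariant. -/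
theorem irreducible (hG : ¬ IsMulCommutative G) (hJ : Cfsg.IsOfJankoFourTypeAt z) (M : Model z)
    (hA : IsTen A) (W : Subgroup G) (hWA : W ≤ A)
    (hinv : normalizer (A : Set G) ≤ normalizer (W : Set G)) : W = ⊥ ∨ W = A := by
  obtain ⟨ht, hz, -⟩ := counts hG hJ M hA
  have hclz : ∀ u ∈ W, IsConj z u → zSet z A ⊆ (W : Set G) := fun u hu huz v hv => by
    obtain ⟨n, hn, h⟩ := trans_zSet hG hJ M hA ⟨hWA hu, huz⟩ hv
    exact h ▸ (mem_normalizer_iff.1 (hinv hn) u).1 hu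
  have hclt : ∀ u ∈ W, u ≠ 1 → ¬ IsConj z u → tSet z A ⊆ (W : Set G) := fun u hu hu1 huz v hv => by
    obtain ⟨n, hn, h⟩ := trans_tSet hG hJ M hA ⟨hWA hu, hu1, huz⟩ hv
    exact h ▸ (mem_normalizer_iff.1 (hinv hn) u).1 hu
  obtain ⟨k, hk, hk'⟩ := (Nat.dvd_prime_pow Nat.prime_two).1 (hA.card_A ▸ card_dvd_of_le hWA)
  have hz1 : (1 : G) ∉ zSet z A := fun h => by
    obtain ⟨P, hP⟩ := hJ
    simpa [isConj_one_left.1 h.2] using hP.1
  have ht1 : (1 : G) ∉ tSet z A := fun h => h.2.1 rfl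
  have hWc : (W : Set G).ncard = 2 ^ k := hk'
  by_cases hexz : ∃ u ∈ W, IsConj z u
  · obtain ⟨u, hu, huz⟩ := hexz
    by_cases hext : ∃ w ∈ W, w ≠ 1 ∧ ¬ IsConj z w
    · obtain ⟨w, hw, hw1, hwz⟩ := hext
      refine Or.inr (le_antisymm hWA fun v hv => ?_)
      by_cases h1 : v = 1
      · exact h1 ▸ W.one_mem
      by_cases hvz : IsConj z v
      · exact hclz u hu huz ⟨hv, hvz⟩
      · exact hclt w hw hw1 hwz ⟨hv, h1, hvz⟩
    · push Not at hext
      have hW : (W : Set G) = insert 1 (zSet z A) := by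
        refine Set.Subset.antisymm (fun v hv => ?_)
          (Set.insert_subset W.one_mem (hclz u hu huz))
        by_cases h1 : v = 1
        · exact Or.inl h1
        · exact Or.inr ⟨hWA hv, hext v hv h1⟩
      rw [hW, Set.ncard_insert_of_notMem hz1, hz] at hWc
      interval_cases k <;> norm_num at hWc
  · push Not at hexz
    by_cases hext : ∃ w ∈ W, w ≠ 1
    · obtain ⟨w, hw, hw1⟩ := hext
      have hW : (W : Set G) = insert 1 (tSet z A) := by
        refine Set.Subset.antisymm (fun v hv => ?_)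
          (Set.insert_subset W.one_mem (hclt w hw hw1 (hexz w hw)))
        by_cases h1 : v = 1
        · exact Or.inl h1
        · exact Or.inr ⟨hWA hv, h1, hexz v hv⟩
      rw [hW, Set.ncard_insert_of_notMem ht1, ht] at hWc
      interval_cases k <;> norm_num at hWc
    · push Not at hext
      exact Or.inl ((eq_bot_iff_forall _).2 hext)

/-- The two orbits. -/
theorem two_orbits (hG : ¬ IsMulCommutative G) (hJ : Cfsg.IsOfJankoFourTypeAt z) (M : Model z)
    (hA : IsTen A) :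
    ∃ a b : G, a ∈ A ∧ b ∈ A ∧
      Set.ncard {v : G | ∃ n ∈ normalizer (A : Set G), n * a * n⁻¹ = v} = 155 ∧
      Set.ncard {v : G | ∃ n ∈ normalizer (A : Set G), n * b * n⁻¹ = v} = 868 := by
  obtain ⟨ht, hz, -⟩ := counts hG hJ M hA
  obtain ⟨a, ha⟩ := Set.nonempty_of_ncard_ne_zero (s := zSet z A) (by omega)
  obtain ⟨b, hb⟩ := Set.nonempty_of_ncard_ne_zero (s := tSet z A) (by omega)
  exact ⟨a, b, ha.1, hb.1, by rw [orbit_zSet hG hJ M hA ha, hz],
    by rw [orbit_tSet hG hJ M hA hb, ht]⟩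

omit [IsSimpleGroup G] in
/-- All self-centralising elementary subgroups of order `2 ^ 10` are conjugate. -/
theorem conj_ten (hJ : Cfsg.IsOfJankoFourTypeAt z) (M : Model z) (hA : IsTen A)
    {A' : Subgroup G} (hA' : IsTen A') :
    ∃ g : G, A' = A.map (MulAut.conj g).toMonoidHom := by
  obtain ⟨V, hV, hAV⟩ := exists_eleven hJ hA
  obtain ⟨V', hV', hAV'⟩ := exists_eleven hJ hA'
  obtain ⟨g, -, h⟩ := M.conj V A V' A' hV hA hAV hV' hA' hAV'
  exact ⟨g, h.symm⟩

end H82.J4A10
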