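import Cfsg.Agent.H54.J4A10.Defs
import Cfsg.Agent.H82.J4A10.Count

/-!
From the coordinates of `V : K` to the interface used by the counting.
-/

set_option autoImplicit false

namespace H82.J4A10

open Subgroup H54.J4A10

variable {G : Type*} [Group G]

/-- The facts about the standard subgroup in coordinates. -/
structure Api {z : G} {V : Subgroup G} (C : Cfg z V) : Prop where
  ael_inj : ∀ a b, a < 1024 → b < 1024 → C.ael a = C.ael b → a = b
  mem_A0 : ∀ g, g ∈ C.A0 ↔ ∃ a, a < 1024 ∧ C.ael a = g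
  ael_one : C.ael 0 = 1
  isTen : IsTen C.A0
  A0_le : C.A0 ≤ normalizer (V : Set G)
  ael_mem_iff : ∀ a, a < 1024 → (C.ael a ∈ V ↔ a < 64)
  ael_conj_z : ∀ a, 0 < a → a < 64 → (IsConj z (C.ael a) ↔ zCode a = true)
  classify : ∀ A : Subgroup G, IsTen A → A ≤ normalizer (V : Set G) →
    ∃ n ∈ normalizer (V : Set G), A = C.A0.map (MulAut.conj n).toMonoidHom
  card_stab : Nat.card ↥(normalizer (V : Set G) ⊓ normalizer (C.A0 : Set G)) = 2 ^ 14 * 20160
  stab_orbit : ∀ a b, 0 < a → a < 1024 → 0 < b → b < 1024 → (a < 64 ↔ b < 64) →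
    zCode a = zCode b →
      ∃ n ∈ normalizer (V : Set G) ⊓ normalizer (C.A0 : Set G), n * C.ael a * n⁻¹ = C.ael b

theorem mem_normalizer_map {n g : G} {K : Subgroup G} (hn : n ∈ normalizer (K : Set G)) :
    g * n * g⁻¹ ∈ normalizer ((K.map (MulAut.conj g).toMonoidHom : Subgroup G) : Set G) :=
  le_normalizer_map _ ⟨n, hn, rfl⟩

theorem le_normalizer_map_conj {A K : Subgroup G} (h : A ≤ normalizer (K : Set G)) (g : G) :
    A.map (MulAut.conj g).toMonoidHom ≤
      normalizer ((K.map (MulAut.conj g).toMonoidHom : Subgroup G) : Set G) :=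
  (map_mono h).trans (le_normalizer_map _)

theorem ncard_image_conj (g : G) (s : Set G) :
    ((fun u => g * u * g⁻¹) '' s).ncard = s.ncard :=
  Set.ncard_image_of_injective _ (MulAut.conj g).injective

/-- The facts about a pair `(V, A)` move with conjugation. -/
theorem Pos.map {z : G} {V A : Subgroup G} (h : Pos z V A) (g : G) :
    Pos z (V.map (MulAut.conj g).toMonoidHom) (A.map (MulAut.conj g).toMonoidHom) := by
  set f := (MulAut.conj g).toMonoidHom with hf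
  have hfi : Function.Injective f := (MulAut.conj g).injective
  have hap : ∀ u, f u = g * u * g⁻¹ := fun u => rfl
  have hiff : ∀ u, IsConj z (f u) ↔ IsConj z u := fun u =>
    ⟨fun e => by_contra fun h' => conj_not_isConj h' e, conj_isConj⟩
  have hinf : A.map f ⊓ V.map f = (A ⊓ V).map f := (map_inf A V f hfi).symm
  refine ⟨?_, ?_, ?_, ?_, ?_⟩
  · rw [hinf, ← Nat.card_congr ((A ⊓ V).equivMapOfInjective f hfi).toEquiv, h.meet]
  · rw [← h.pairs, ← Set.ncard_image_of_injective {u : G | u ∈ A ⊓ V ∧ u ≠ 1 ∧ ¬ IsConj z u} hfi]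
    congr 1
    ext u
    rw [hinf]
    constructor
    · rintro ⟨⟨v, hv, rfl⟩, h1, h2⟩
      exact ⟨v, ⟨hv, fun e => h1 (by rw [e, map_one]), fun e => h2 ((hiff v).2 e)⟩, rfl⟩
    · rintro ⟨v, ⟨hv, h1, h2⟩, rfl⟩
      exact ⟨⟨v, hv, rfl⟩, fun e => h1 (hfi (e.trans (map_one f).symm)), fun e => h2 ((hiff v).1 e)⟩
  · rw [hinf]
    rintro _ ⟨u, hu, rfl⟩ huz _ ⟨v, hv, rfl⟩ hvz
    obtain ⟨n, hn, hnu⟩ := h.trans_z u hu ((hiff u).1 huz) v hv ((hiff v).1 hvz)
    exact ⟨f n, mem_inf.2 ⟨mem_normalizer_map (mem_inf.1 hn).1, mem_normalizer_map (mem_inf.1 hn).2⟩,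
      by rw [← map_inv, ← map_mul, ← map_mul, hnu]⟩
  · rw [hinf]
    rintro _ ⟨u, hu, rfl⟩ hu1 huz _ ⟨v, hv, rfl⟩ hv1 hvz
    obtain ⟨n, hn, hnu⟩ := h.trans_t u hu (fun e => hu1 (by rw [e, map_one]))
      (fun e => huz ((hiff u).2 e)) v hv (fun e => hv1 (by rw [e, map_one]))
      (fun e => hvz ((hiff v).2 e))
    exact ⟨f n, mem_inf.2 ⟨mem_normalizer_map (mem_inf.1 hn).1, mem_normalizer_map (mem_inf.1 hn).2⟩,
      by rw [← map_inv, ← map_mul, ← map_mul, hnu]⟩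
  · obtain ⟨S₀, S₁, hun, h₀, h₁, hc₀, hc₁⟩ := h.outside
    refine ⟨f '' S₀, f '' S₁, ?_, ?_, ?_, ?_, ?_⟩
    · rw [← Set.image_union, hun, Set.image_sdiff hfi, coe_map, coe_map]
    · rw [Set.ncard_image_of_injective _ hfi, h₀]
    · rw [Set.ncard_image_of_injective _ hfi, h₁]
    · rintro _ ⟨u, hu, rfl⟩ _ ⟨v, hv, rfl⟩
      exact MonoidHom.map_isConj f (hc₀ u hu v hv)
    · rintro _ ⟨u, hu, rfl⟩ _ ⟨v, hv, rfl⟩
      exact MonoidHom.map_isConj f (hc₁ u hu v hv)

theorem card_z_low : ((Finset.range 64).filter fun a => 0 < a ∧ zCode a = false).card = 28 := by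
  decide +kernel

theorem card_z_high :
    ((Finset.range 1024).filter fun a => 64 ≤ a ∧ zCode a = true).card = 120 := by
  decide +kernel

theorem card_t_high :
    ((Finset.range 1024).filter fun a => 64 ≤ a ∧ zCode a = false).card = 840 := by
  decide +kernel

namespace Api

variable {z : G} {V : Subgroup G} {C : Cfg z V} (P : Api C)

include P in
theorem pos : Pos z V C.A0 := by
  have hmeet : ∀ u, u ∈ C.A0 ⊓ V ↔ ∃ a, a < 64 ∧ C.ael a = u := fun u => by
    rw [mem_inf, P.mem_A0]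
    constructor
    · rintro ⟨⟨a, ha, rfl⟩, hu⟩
      exact ⟨a, (P.ael_mem_iff a ha).1 hu, rfl⟩
    · rintro ⟨a, ha, rfl⟩
      exact ⟨⟨a, by omega, rfl⟩, (P.ael_mem_iff a (by omega)).2 ha⟩
  have hne : ∀ a, a < 1024 → (C.ael a ≠ 1 ↔ 0 < a) := fun a ha =>
    ⟨fun h => Nat.pos_of_ne_zero fun e => h (e ▸ P.ael_one),
      fun h e => h.ne' (P.ael_inj a 0 ha (by norm_num) (e.trans P.ael_one.symm))⟩
  have hinj : ∀ s : Finset ℕ, (∀ a ∈ s, a < 1024) → (C.ael '' (s : Set ℕ)).ncard = s.card :=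
    fun s hs => by
      rw [Set.InjOn.ncard_image fun a ha b hb h => P.ael_inj a b (hs a ha) (hs b hb) h,
        Set.ncard_coe_finset]
  refine ⟨?_, ?_, ?_, ?_, ?_⟩
  · rw [show Nat.card ↥(C.A0 ⊓ V) = ((C.A0 ⊓ V : Subgroup G) : Set G).ncard from rfl,
      show ((C.A0 ⊓ V : Subgroup G) : Set G) = C.ael '' (Finset.range 64 : Set ℕ) from
        Set.ext fun u => (hmeet u).trans (by simp [eq_comm]),
      hinj _ (fun a ha => by rw [Finset.mem_range] at ha; omega), Finset.card_range]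
    norm_num
  · rw [← card_z_low, ← hinj _ (fun a ha => by
      rw [Finset.mem_filter, Finset.mem_range] at ha; omega)]
    congr 1
    ext u
    simp only [Set.mem_ofPred_eq, Set.mem_image, Finset.coe_filter, Finset.mem_range, hmeet]
    constructor
    · rintro ⟨⟨a, ha, rfl⟩, h1, h2⟩
      have h0 := (hne a (by omega)).1 h1
      exact ⟨a, ⟨ha, h0, Bool.eq_false_iff.2 fun e => h2 ((P.ael_conj_z a h0 ha).2 e)⟩, rfl⟩
    · rintro ⟨a, ⟨ha, h0, hz⟩, rfl⟩
      exact ⟨⟨a, ha, rfl⟩, (hne a (by omega)).2 h0, fun e => by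
        rw [(P.ael_conj_z a h0 ha).1 e] at hz; exact absurd hz (by simp)⟩
  · intro u hu huz v hv hvz
    obtain ⟨a, ha, rfl⟩ := (hmeet u).1 hu
    obtain ⟨b, hb, rfl⟩ := (hmeet v).1 hv
    have pos' : ∀ c, c < 64 → IsConj z (C.ael c) → 0 < c := fun c hc e => by
      refine Nat.pos_of_ne_zero fun e0 => ?_
      subst e0
      rw [P.ael_one, isConj_one_left] at e
      subst e
      have hw := (P.ael_conj_z 7 (by norm_num) (by norm_num))
      exact (hne 7 (by norm_num)).2 (by norm_num) (isConj_one_right.1 (hw.2 (by decide +kernel)))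
    obtain ⟨n, hn, e⟩ := P.stab_orbit a b (pos' a ha huz) (by omega) (pos' b hb hvz) (by omega)
      (by omega) (by rw [(P.ael_conj_z a (pos' a ha huz) ha).1 huz,
        (P.ael_conj_z b (pos' b hb hvz) hb).1 hvz])
    exact ⟨n, by rwa [inf_comm], e⟩
  · intro u hu hu1 huz v hv hv1 hvz
    obtain ⟨a, ha, rfl⟩ := (hmeet u).1 hu
    obtain ⟨b, hb, rfl⟩ := (hmeet v).1 hv
    have h0a := (hne a (by omega)).1 hu1
    have h0b := (hne b (by omega)).1 hv1
    obtain ⟨n, hn, e⟩ := P.stab_orbit a b h0a (by omega) h0b (by omega) (by omega)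
      (by rw [Bool.eq_false_iff.2 fun e => huz ((P.ael_conj_z a h0a ha).2 e),
        Bool.eq_false_iff.2 fun e => hvz ((P.ael_conj_z b h0b hb).2 e)])
    exact ⟨n, by rwa [inf_comm], e⟩
  · refine ⟨C.ael '' ↑((Finset.range 1024).filter fun a => 64 ≤ a ∧ zCode a = true),
      C.ael '' ↑((Finset.range 1024).filter fun a => 64 ≤ a ∧ zCode a = false), ?_, ?_, ?_, ?_, ?_⟩
    · ext u
      simp only [Set.mem_union, Set.mem_image, Set.mem_sdiff, SetLike.mem_coe, Finset.mem_filter,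
        Finset.mem_range, P.mem_A0]
      constructor
      · rintro (⟨a, ⟨ha, h64, -⟩, rfl⟩ | ⟨a, ⟨ha, h64, -⟩, rfl⟩) <;>
          exact ⟨⟨a, ha, rfl⟩, fun e => absurd ((P.ael_mem_iff a ha).1 e) (by omega)⟩
      · rintro ⟨⟨a, ha, rfl⟩, hV⟩
        have h64 : 64 ≤ a := not_lt.1 fun e => hV ((P.ael_mem_iff a ha).2 e)
        cases hz : zCode a
        · exact Or.inr ⟨a, ⟨ha, h64, hz⟩, rfl⟩
        · exact Or.inl ⟨a, ⟨ha, h64, hz⟩, rfl⟩
    · rw [hinj _ (fun a ha => by rw [Finset.mem_filter, Finset.mem_range] at ha; omega),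
        card_z_high]
    · rw [hinj _ (fun a ha => by rw [Finset.mem_filter, Finset.mem_range] at ha; omega),
        card_t_high]
    all_goals
      rintro _ ⟨a, ha, rfl⟩ _ ⟨b, hb, rfl⟩
      simp only [Finset.mem_coe, Finset.mem_filter, Finset.mem_range] at ha hb
      obtain ⟨n, -, e⟩ := P.stab_orbit a b (by omega) ha.1 (by omega) hb.1 (by omega)
        (ha.2.2.trans hb.2.2.symm)
      exact isConj_iff.2 ⟨n, e⟩

end Api

open scoped Pointwise

variable [Finite G] {z : G}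

/-- All elementary subgroups of order `2 ^ 11` are conjugate. -/
theorem conj_eleven (hJ : Cfsg.IsOfJankoFourTypeAt z) {V V' : Subgroup G} (hV : IsEleven V)
    (hV' : IsEleven V') : ∃ g : G, V.map (MulAut.conj g).toMonoidHom = V' := by
  haveI : Fact (Nat.Prime 2) := ⟨Nat.prime_two⟩
  obtain ⟨P, hP⟩ := id hJ
  obtain ⟨T, hT⟩ := (H95.J4T.isPGroup_elementary hV.elem).exists_le_sylow
  obtain ⟨T', hT'⟩ := (H95.J4T.isPGroup_elementary hV'.elem).exists_le_sylow
  obtain ⟨g, hg⟩ := MulAction.exists_smul_eq G T T'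
  obtain ⟨W, -, huniq⟩ := Cfsg.Agent.H69.J4.sylow_unique_elementary hP T'
  refine ⟨g, ?_⟩
  have hle : V.map (MulAut.conj g).toMonoidHom ≤ (T' : Subgroup G) := by
    rintro _ ⟨x, hx, rfl⟩
    rw [← hg]
    show g * x * g⁻¹ ∈ MulAut.conj g • (T : Subgroup G)
    rw [Subgroup.mem_pointwise_smul_iff_inv_smul_mem, MulAut.smul_def, MulAut.conj_inv_apply,
      show g⁻¹ * (g * x * g⁻¹) * g = x by group]
    exact hT hx
  rw [huniq _ ⟨hle, (hV.map g).elem, (hV.map g).card_V⟩, huniq V' ⟨hT', hV'.elem, hV'.card_V⟩]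

variable [IsSimpleGroup G]

theorem model_of_api (hG : ¬ IsMulCommutative G) (hJ : Cfsg.IsOfJankoFourTypeAt z)
    (hapi : ∀ V : Subgroup G, IsEleven V → ∃ C : Cfg z V, Api C) : Model z := by
  refine ⟨?_, ?_, ?_⟩
  · obtain ⟨P, hP⟩ := id hJ
    obtain ⟨V, hV, hVc, -⟩ := H95.J4T.exists_mem_elementary hG hJ (t := z) hP.1
    obtain ⟨C, hC⟩ := hapi V ⟨hV, hVc⟩
    exact ⟨V, C.A0, ⟨hV, hVc⟩, hC.isTen, hC.A0_le⟩
  · intro V A hV hA hAV
    obtain ⟨C, hC⟩ := hapi V hV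
    obtain ⟨n, hn, rfl⟩ := hC.classify A hA hAV
    have := hC.pos.map n
    rwa [map_conj_eq_iff.2 hn] at this
  · intro V A V' A' hV hA hAV hV' hA' hAV'
    obtain ⟨g, rfl⟩ := conj_eleven hJ hV hV'
    obtain ⟨C, hC⟩ := hapi _ hV'
    have hA2 : IsTen (A.map (MulAut.conj g).toMonoidHom) := by
      refine ⟨H95.J4T.map_elementary g hA.elem, by rw [H95.J4T.card_map, hA.card_A], ?_⟩
      refine le_antisymm (fun x hx => mem_map_conj.2 ?_) (fun x hx => ?_)
      · have hmem : g⁻¹ * x * g ∈ centralizer (A : Set G) := mem_centralizer_iff.2 fun a ha => by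
          have h := mem_centralizer_iff.1 hx (g * a * g⁻¹) ⟨a, ha, rfl⟩
          calc a * (g⁻¹ * x * g) = g⁻¹ * (g * a * g⁻¹ * x) * g := by group
            _ = g⁻¹ * (x * (g * a * g⁻¹)) * g := by rw [h]
            _ = g⁻¹ * x * g * a := by group
        rwa [hA.cent] at hmem
      · rintro _ ⟨a, ha, rfl⟩
        obtain ⟨b, hb, rfl⟩ := hx
        rw [← map_mul, ← map_mul, hA.comm ha hb]
    obtain ⟨n, hn, e⟩ := hC.classify _ hA2 (le_normalizer_map_conj hAV g)
    obtain ⟨m, hm, e'⟩ := hC.classify A' hA' hAV'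
    refine ⟨m * n⁻¹ * g, ?_, ?_⟩
    · rw [map_conj_mul, map_conj_eq_iff.2 ((normalizer _).mul_mem hm ((normalizer _).inv_mem hn))]
    · rw [map_conj_mul, map_conj_mul, e, ← map_conj_mul (n := n⁻¹), inv_mul_cancel, map_conj_one,
        e']

/-- In coordinates the elements conjugate to `z` are exactly the marked ones. -/
theorem isConj_iff_zCode (hG : ¬ IsMulCommutative G) (hJ : Cfsg.IsOfJankoFourTypeAt z)
    (M : Model z) {V : Subgroup G} (hV : IsEleven V) {C : Cfg z V} (P : Api C) {a : ℕ}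
    (ha : 0 < a) (ha' : a < 1024) : IsConj z (C.ael a) ↔ zCode a = true := by
  rcases Nat.lt_or_ge a 64 with h | h
  · exact P.ael_conj_z a ha h
  set S₀ := C.ael '' ↑((Finset.range 1024).filter fun a => 64 ≤ a ∧ zCode a = true) with hS₀
  set S₁ := C.ael '' ↑((Finset.range 1024).filter fun a => 64 ≤ a ∧ zCode a = false) with hS₁
  have hinj : ∀ s : Finset ℕ, (∀ a ∈ s, a < 1024) → (C.ael '' (s : Set ℕ)).ncard = s.card :=
    fun s hs => by
      rw [Set.InjOn.ncard_image fun a ha b hb h => P.ael_inj a b (hs a ha) (hs b hb) h,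
        Set.ncard_coe_finset]
  have hun : S₀ ∪ S₁ = (C.A0 : Set G) \ (V : Set G) := by
    ext u
    simp only [hS₀, hS₁, Set.mem_union, Set.mem_image, Set.mem_sdiff, SetLike.mem_coe,
      Finset.mem_filter, Finset.mem_range, P.mem_A0]
    constructor
    · rintro (⟨a, ⟨ha, h64, -⟩, rfl⟩ | ⟨a, ⟨ha, h64, -⟩, rfl⟩) <;>
        exact ⟨⟨a, ha, rfl⟩, fun e => absurd ((P.ael_mem_iff a ha).1 e) (by omega)⟩
    · rintro ⟨⟨a, ha, rfl⟩, hV⟩
      have h64 : 64 ≤ a := not_lt.1 fun e => hV ((P.ael_mem_iff a ha).2 e)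
      cases hz : zCode a
      · exact Or.inr ⟨a, ⟨ha, h64, hz⟩, rfl⟩
      · exact Or.inl ⟨a, ⟨ha, h64, hz⟩, rfl⟩
  have hcl : ∀ bv, ∀ u ∈ C.ael '' ↑((Finset.range 1024).filter fun a => 64 ≤ a ∧ zCode a = bv),
      ∀ v ∈ C.ael '' ↑((Finset.range 1024).filter fun a => 64 ≤ a ∧ zCode a = bv), IsConj u v := by
    rintro bv _ ⟨a, ha, rfl⟩ _ ⟨b, hb, rfl⟩
    simp only [Finset.mem_coe, Finset.mem_filter, Finset.mem_range] at ha hb
    obtain ⟨n, -, e⟩ := P.stab_orbit a b (by omega) ha.1 (by omega) hb.1 (by omega)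
      (ha.2.2.trans hb.2.2.symm)
    exact isConj_iff.2 ⟨n, e⟩
  obtain ⟨-, hz, ht⟩ := counts_at hG hJ M P.isTen (V := V) ⟨hV, P.A0_le⟩ hun
    (by rw [hS₀, hinj _ (fun a ha => by rw [Finset.mem_filter, Finset.mem_range] at ha; omega),
      card_z_high])
    (by rw [hS₁, hinj _ (fun a ha => by rw [Finset.mem_filter, Finset.mem_range] at ha; omega),
      card_t_high]) (hcl true) (hcl false)
  cases hzc : zCode a
  · exact ⟨fun e => absurd e (ht _ ⟨a, by simp [h, ha', hzc], rfl⟩), fun e => by simp at e⟩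
  · exact ⟨fun _ => rfl, fun _ => hz _ ⟨a, by simp [h, ha', hzc], rfl⟩⟩

theorem card_normalizer_A0 (hG : ¬ IsMulCommutative G) (hJ : Cfsg.IsOfJankoFourTypeAt z)
    (M : Model z) {V : Subgroup G} (hV : IsEleven V) {C : Cfg z V} (P : Api C) :
    Nat.card ↥(normalizer (C.A0 : Set G)) = 2 ^ 10 * 9999360 := by
  rw [card_normalizer hG hJ M P.isTen (V := V) ⟨hV, P.A0_le⟩, inf_comm, P.card_stab]
  norm_num

end H82.J4A10
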