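import Cfsg.Agent.H82.J4A10.Defs
import Cfsg.Agent.H95.J4T.Second

/-!
The subgroups of order `2 ^ 11` normalized by a self-centralising elementary subgroup of order
`2 ^ 10` in a group of Janko-four type.
-/

set_option autoImplicit false

namespace H82.J4A10

open Subgroup

variable {G : Type*} [Group G]

theorem conj_isConj {z u g : G} (h : IsConj z u) : IsConj z (g * u * g⁻¹) :=
  h.trans (isConj_iff.2 ⟨g, rfl⟩)

theorem IsEleven.map {V : Subgroup G} [Finite G] (hV : IsEleven V) (k : G) :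
    IsEleven (V.map (MulAut.conj k).toMonoidHom) :=
  ⟨H95.J4T.map_elementary k hV.elem, by rw [H95.J4T.card_map, hV.card_V]⟩

theorem IsEleven.comm {V : Subgroup G} (hV : IsEleven V) {a b : G} (ha : a ∈ V) (hb : b ∈ V) :
    a * b = b * a := by
  obtain ⟨⟨⟨hc⟩⟩, -⟩ := hV.elem
  exact congrArg Subtype.val (hc ⟨a, ha⟩ ⟨b, hb⟩)

theorem IsTen.comm {A : Subgroup G} (hA : IsTen A) {a b : G} (ha : a ∈ A) (hb : b ∈ A) :
    a * b = b * a := by
  obtain ⟨⟨⟨hc⟩⟩, -⟩ := hA.elem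
  exact congrArg Subtype.val (hc ⟨a, ha⟩ ⟨b, hb⟩)

theorem IsTen.sq {A : Subgroup G} (hA : IsTen A) {a : G} (ha : a ∈ A) : a * a = 1 := by
  rw [← pow_two]; exact hA.elem.2 a ha

theorem IsTen.le_centralizer {A : Subgroup G} (hA : IsTen A) {u : G} (hu : u ∈ A) :
    A ≤ centralizer ({u} : Set G) := fun _ ha =>
  mem_centralizer_singleton_iff.2 (hA.comm ha hu)

theorem IsEleven.le_centralizer {V : Subgroup G} (hV : IsEleven V) {u : G} (hu : u ∈ V) :
    V ≤ centralizer ({u} : Set G) := fun _ ha =>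
  mem_centralizer_singleton_iff.2 (hV.comm ha hu)

variable [Finite G] {z : G}

theorem sylow_le_normalizer (hJ : Cfsg.IsOfJankoFourTypeAt z) (T : Sylow 2 G) :
    ∃ V : Subgroup G, IsEleven V ∧ V ≤ (T : Subgroup G) ∧
      (T : Subgroup G) ≤ normalizer (V : Set G) := by
  obtain ⟨P, hP⟩ := hJ
  obtain ⟨V, ⟨hVT, hV, hVc⟩, huniq⟩ := Cfsg.Agent.H69.J4.sylow_unique_elementary hP T
  have hel : IsEleven V := ⟨hV, hVc⟩
  refine ⟨V, hel, hVT, fun q hq => mem_normalizer_iff.2 ?_⟩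
  have key : V.map (MulAut.conj q).toMonoidHom = V := huniq _ ⟨?_, (hel.map q).elem, (hel.map q).card_V⟩
  · intro x
    constructor
    · intro hx
      rw [← key]
      exact ⟨x, hx, rfl⟩
    · intro hx
      rw [← key] at hx
      obtain ⟨y, hy, hyx⟩ := hx
      rwa [← (MulAut.conj q).injective hyx]
  · rintro _ ⟨x, hx, rfl⟩
    exact (T : Subgroup G).mul_mem ((T : Subgroup G).mul_mem hq (hVT hx))
      ((T : Subgroup G).inv_mem hq)

theorem exists_eleven (hJ : Cfsg.IsOfJankoFourTypeAt z) {A : Subgroup G} (hA : IsTen A) :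
    ∃ V : Subgroup G, IsEleven V ∧ A ≤ normalizer (V : Set G) := by
  obtain ⟨T, hT⟩ := (H95.J4T.isPGroup_elementary hA.elem).exists_le_sylow
  obtain ⟨V, hV, -, hn⟩ := sylow_le_normalizer hJ T
  exact ⟨V, hV, hT.trans hn⟩

variable [IsSimpleGroup G]

theorem centralizer_eleven_le (hG : ¬ IsMulCommutative G) (hJ : Cfsg.IsOfJankoFourTypeAt z)
    {V : Subgroup G} (hV : IsEleven V) : centralizer (V : Set G) ≤ V := by
  obtain ⟨P, hP⟩ := hJ
  exact (H19.J4V.exists_labels hG hP V hV.elem hV.card_V).1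

theorem centralizer_le (hG : ¬ IsMulCommutative G) (hJ : Cfsg.IsOfJankoFourTypeAt z)
    {V : Subgroup G} (hV : IsEleven V) {t : G} (ht : t ∈ V) (ht1 : t ≠ 1) (htz : ¬ IsConj z t) :
    centralizer ({t} : Set G) ≤ normalizer (V : Set G) := by
  obtain ⟨P, hP⟩ := id hJ
  obtain ⟨hcent, -, L, φ, hφ, hbij, hT⟩ := H19.J4V.exists_labels hG hP V hV.elem hV.card_V
  obtain ⟨F, -⟩ := H95.J4T.frame_of_labels hV.elem hV.card_V (z := z)
    (fun h => by simpa [h] using hP.1) hcent L φ hφ hbij hT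
  obtain ⟨a, b, hab, rfl⟩ := F.pair t ht ht1 htz
  exact H95.J4T.centralizer_le (H95.J4T.setup hG hJ F) hab

/-- An element not conjugate to `z` lies in exactly one of the subgroups of order `2 ^ 11`
normalized by `A`. -/
theorem exists_meet_t (hG : ¬ IsMulCommutative G) (hJ : Cfsg.IsOfJankoFourTypeAt z)
    {A : Subgroup G} (hA : IsTen A) {u : G} (hu : u ∈ A) (hu1 : u ≠ 1) (huz : ¬ IsConj z u) :
    ∃ V : Subgroup G, IsEleven V ∧ A ≤ normalizer (V : Set G) ∧ u ∈ V := by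
  obtain ⟨V, hV, hVc, huV⟩ := H95.J4T.exists_mem_elementary hG hJ
    (orderOf_eq_prime (p := 2) (by rw [pow_two, hA.sq hu]) hu1)
  exact ⟨V, ⟨hV, hVc⟩, (hA.le_centralizer hu).trans (centralizer_le hG hJ ⟨hV, hVc⟩ huV hu1 huz),
    huV⟩

theorem unique_meet_t (hG : ¬ IsMulCommutative G) (hJ : Cfsg.IsOfJankoFourTypeAt z)
    {V V' : Subgroup G} (hV : IsEleven V) (hV' : IsEleven V') {u : G} (hu : u ∈ V) (hu' : u ∈ V')
    (hu1 : u ≠ 1) (huz : ¬ IsConj z u) : V' = V :=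
  H95.J4T.eq_of_le_normalizer hJ hV.elem hV.card_V hV'.elem hV'.card_V
    ((hV'.le_centralizer hu').trans (centralizer_le hG hJ hV hu hu1 huz))

/-- A conjugate of `z` in `A` lies in some subgroup of order `2 ^ 11` normalized by `A`. -/
theorem exists_meet_z (hG : ¬ IsMulCommutative G) (hJ : Cfsg.IsOfJankoFourTypeAt z)
    {A : Subgroup G} (hA : IsTen A) {u : G} (hu : u ∈ A) (huz : IsConj z u) :
    ∃ V : Subgroup G, IsEleven V ∧ A ≤ normalizer (V : Set G) ∧ u ∈ V := by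
  haveI : Fact (Nat.Prime 2) := ⟨Nat.prime_two⟩
  obtain ⟨g, hg⟩ := isConj_iff.1 huz
  obtain ⟨P, hP⟩ := id hJ
  have d := Cfsg.Agent.H69.J4.data_of_type hP
  set B := A.map (MulAut.conj g⁻¹).toMonoidHom with hB
  have hBz : B ≤ centralizer ({z} : Set G) := by
    rintro _ ⟨a, ha, rfl⟩
    refine mem_centralizer_singleton_iff.2 ?_
    show (MulAut.conj g⁻¹).toMonoidHom a * z = z * _
    have hz : z = (MulAut.conj g⁻¹).toMonoidHom u := by
      show z = g⁻¹ * u * g⁻¹⁻¹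
      rw [← hg]; group
    rw [hz, ← map_mul, ← map_mul, hA.comm ha hu]
  have hBp : IsPGroup 2 ↥(B.subgroupOf (centralizer ({z} : Set G))) :=
    ((H95.J4T.isPGroup_elementary hA.elem).map _).of_equiv (subgroupOfEquivOfLe hBz).symm
  obtain ⟨S, hS⟩ := hBp.exists_le_sylow
  obtain ⟨Q, hQ⟩ := (S.isPGroup'.map (centralizer ({z} : Set G)).subtype).exists_le_sylow
  have hQS := Cfsg.Agent.H69.J4.centralizer_sylow_is_sylow d S Q hQ
  obtain ⟨V, hV, hVQ, hQV⟩ := sylow_le_normalizer hJ Q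
  have hzV : z ∈ V := centralizer_eleven_le hG hJ hV (mem_centralizer_iff.2 fun v hv => by
    have : v ∈ centralizer ({z} : Set G) := by
      have := hVQ hv
      rw [hQS] at this
      exact map_subtype_le _ this
    exact mem_centralizer_singleton_iff.1 this)
  have hBQ : B ≤ (Q : Subgroup G) := fun b hb =>
    hQ ⟨⟨b, hBz hb⟩, hS (mem_subgroupOf.2 hb), rfl⟩
  refine ⟨V.map (MulAut.conj g).toMonoidHom, hV.map g, fun a ha => ?_, ⟨z, hzV, hg⟩⟩
  refine le_normalizer_map _ ⟨g⁻¹ * a * g⁻¹⁻¹, hQV (hBQ ⟨a, ha, rfl⟩), ?_⟩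
  show g * (g⁻¹ * a * g⁻¹⁻¹) * g⁻¹ = a
  group

end H82.J4A10
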