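import Cfsg.Agent.H82.J4A10.Adapter
import Cfsg.Agent.H9.J4A10.Split

/-!
The split normalizer of the subgroup of order `2 ^ 10` from the recognition of the complement.
-/

set_option autoImplicit false

namespace H82.J4A10

open Subgroup H54.J4A10
open scoped Pointwise

/-- A faithful XOR-linear action on the codes preserving the marked set. -/
structure CodeAction (B : Type*) [Group B] (act : B → ℕ → ℕ) : Prop where
  lt : ∀ b, ∀ a < 1024, act b a < 1024
  one : ∀ a < 1024, act 1 a = a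
  mul : ∀ b c, ∀ a < 1024, act (b * c) a = act b (act c a)
  xor : ∀ b, ∀ x < 1024, ∀ y < 1024, act b (x ^^^ y) = act b x ^^^ act b y
  zCode_eq : ∀ b, ∀ a < 1024, zCode (act b a) = zCode a
  faithful : ∀ b, (∀ a < 1024, act b a = a) → b = 1

variable {G : Type*} [Group G] {z : G}

theorem exists_codeAction (hz1 : z ≠ 1) {V : Subgroup G} {C : Cfg z V} (P : Api C)
    (hxor : ∀ a b, a < 1024 → b < 1024 → C.ael (a ^^^ b) = C.ael a * C.ael b)
    (hz : ∀ a, 0 < a → a < 1024 → (IsConj z (C.ael a) ↔ zCode a = true))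
    {B : Subgroup G} (hB : B ≤ normalizer (C.A0 : Set G)) (hinf : B ⊓ C.A0 = ⊥) :
    ∃ act : ↥B → ℕ → ℕ, CodeAction ↥B act := by
  classical
  let act : ↥B → ℕ → ℕ := fun b a =>
    if h : ∃ c, c < 1024 ∧ C.ael c = (b : G) * C.ael a * (b : G)⁻¹ then h.choose else 0
  have spec : ∀ (b : ↥B), ∀ a < 1024,
      act b a < 1024 ∧ C.ael (act b a) = (b : G) * C.ael a * (b : G)⁻¹ := fun b a ha => by
    have h : ∃ c, c < 1024 ∧ C.ael c = (b : G) * C.ael a * (b : G)⁻¹ :=
      (P.mem_A0 _).1 ((mem_normalizer_iff.1 (hB b.2) _).1 ((P.mem_A0 _).2 ⟨a, ha, rfl⟩))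
    simp only [act, dif_pos h]
    exact h.choose_spec
  have hx : ∀ x y, x < 1024 → y < 1024 → x ^^^ y < 1024 := fun x y h1 h2 =>
    Nat.xor_lt_two_pow (n := 10) h1 h2
  have hzall : ∀ a, a < 1024 → (IsConj z (C.ael a) ↔ zCode a = true) := fun a ha => by
    rcases Nat.eq_zero_or_pos a with rfl | h
    · rw [P.ael_one, show zCode 0 = false by decide +kernel]
      exact ⟨fun e => absurd (isConj_one_left.1 e) hz1, fun e => by simp at e⟩
    · exact hz a h ha
  refine ⟨act, ⟨fun b a ha => (spec b a ha).1, fun a ha => ?_, fun b c a ha => ?_,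
    fun b x hx' y hy => ?_, fun b a ha => ?_, fun b h => ?_⟩⟩
  · refine P.ael_inj _ _ (spec 1 a ha).1 ha ?_
    rw [(spec 1 a ha).2]; simp
  · refine P.ael_inj _ _ (spec _ a ha).1 (spec b _ (spec c a ha).1).1 ?_
    rw [(spec _ a ha).2, (spec b _ (spec c a ha).1).2, (spec c a ha).2, coe_mul]
    group
  · refine P.ael_inj _ _ (spec b _ (hx x y hx' hy)).1 (hx _ _ (spec b x hx').1 (spec b y hy).1) ?_
    rw [(spec b _ (hx x y hx' hy)).2, hxor x y hx' hy, hxor _ _ (spec b x hx').1 (spec b y hy).1,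
      (spec b x hx').2, (spec b y hy).2]
    group
  · rw [Bool.eq_iff_iff, ← hzall a ha, ← hzall _ (spec b a ha).1, (spec b a ha).2]
    exact ⟨fun e => by_contra fun h => conj_not_isConj h e, conj_isConj⟩
  · have hmem : (b : G) ∈ centralizer (C.A0 : Set G) := mem_centralizer_iff.2 fun u hu => by
      obtain ⟨a, ha, rfl⟩ := (P.mem_A0 u).1 hu
      have e := (spec b a ha).2
      rw [h a ha] at e
      exact (eq_mul_inv_iff_mul_eq.1 e)
    rw [P.isTen.cent] at hmem
    have : (b : G) ∈ B ⊓ C.A0 := mem_inf.2 ⟨b.2, hmem⟩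
    rw [hinf, mem_bot] at this
    exact Subtype.ext this

variable [Finite G]

theorem card_complement {A B : Subgroup G} (hA : IsTen A)
    (hN : Nat.card ↥(normalizer (A : Set G)) = 2 ^ 10 * 9999360)
    (hB : B ≤ normalizer (A : Set G)) (hinf : B ⊓ A = ⊥) (hsup : B ⊔ A = normalizer (A : Set G)) :
    Nat.card B = 9999360 := by
  set N := normalizer (A : Set G) with hNdef
  have : (A.subgroupOf N).Normal := normal_subgroupOf_of_le_normalizer le_rfl
  have h1 : Disjoint (B.subgroupOf N) (A.subgroupOf N) := by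
    rw [disjoint_iff, eq_bot_iff]
    intro x hx
    have h : (x : G) ∈ B ⊓ A := ⟨hx.1, hx.2⟩
    rw [hinf, mem_bot] at h
    exact mem_bot.2 (Subtype.ext h)
  have h2 : ((B.subgroupOf N : Subgroup N) : Set N) * ((A.subgroupOf N : Subgroup N) : Set N) = Set.univ := by
    rw [← mul_normal, ← subgroupOf_sup hB le_normalizer, hsup, subgroupOf_self, coe_top]
  have h := (isComplement'_of_disjoint_and_mul_eq_univ h1 h2).card_mul_card
  rw [Nat.card_congr (subgroupOfEquivOfLe hB).toEquiv,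
    Nat.card_congr (subgroupOfEquivOfLe (le_normalizer : A ≤ N)).toEquiv, hA.card_A, hN] at h
  exact Nat.eq_of_mul_eq_mul_right (by norm_num) (h.trans (mul_comm _ _))

omit [Finite G] in
theorem normalizer_map_conj (A : Subgroup G) (n : G) :
    normalizer ((A.map (MulAut.conj n).toMonoidHom : Subgroup G) : Set G) =
      (normalizer (A : Set G)).map (MulAut.conj n).toMonoidHom :=
  (map_equiv_normalizer_eq A (MulAut.conj n)).symm

/-- The complement, from a seed and the recognition of the automorphisms of the marked set. -/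
theorem split_of [IsSimpleGroup G] (hG : ¬ IsMulCommutative G)
    (hJ : Cfsg.IsOfJankoFourTypeAt z)
    (hapi : ∀ V : Subgroup G, IsEleven V → ∃ C : Cfg z V, Api C ∧
      (∀ a b, a < 1024 → b < 1024 → C.ael (a ^^^ b) = C.ael a * C.ael b) ∧
      ∃ S : Subgroup G, S ≤ normalizer (C.A0 : Set G) ∧ S ⊓ C.A0 = ⊥ ∧ Nat.card S = 2 ^ 10)
    (hrec : ∀ (B : Subgroup G) (act : ↥B → ℕ → ℕ), CodeAction ↥B act → Nat.card ↥B = 9999360 →
      Nonempty (↥B ≃* Matrix.SpecialLinearGroup (Fin 5) (ZMod 2)))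
    {A : Subgroup G} (hA : IsTen A) :
    ∃ B : Subgroup G, B ≤ normalizer (A : Set G) ∧ B ⊓ A = ⊥ ∧ B ⊔ A = normalizer (A : Set G) ∧
      Nonempty (↥B ≃* Matrix.SpecialLinearGroup (Fin 5) (ZMod 2)) := by
  have M : Model z := model_of_api hG hJ fun V hV => by
    obtain ⟨C, hC, -⟩ := hapi V hV
    exact ⟨C, hC⟩
  obtain ⟨V, hV, hAV⟩ := exists_eleven hJ hA
  obtain ⟨C, P, hxor, S, hS, hSA, hSc⟩ := hapi V hV
  have hN := card_normalizer_A0 hG hJ M hV P
  obtain ⟨B, hB, hinf, hsup⟩ := H9.J4A10.exists_complement P.isTen hN hS hSA hSc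
  have hz1 : z ≠ 1 := fun h => by
    obtain ⟨Q, hQ⟩ := hJ
    simpa [h] using hQ.1
  obtain ⟨act, hact⟩ := exists_codeAction hz1 P hxor
    (fun a h0 ha => isConj_iff_zCode hG hJ M hV P h0 ha) hB hinf
  obtain ⟨e⟩ := hrec B act hact (card_complement P.isTen hN hB hinf hsup)
  obtain ⟨n, -, rfl⟩ := P.classify A hA hAV
  refine ⟨B.map (MulAut.conj n).toMonoidHom, ?_, ?_, ?_,
    ⟨((MulAut.conj n).subgroupMap B).symm.trans e⟩⟩
  · rw [normalizer_map_conj]; exact map_mono hB
  · rw [← map_inf B C.A0 _ (MulAut.conj n).injective, hinf, Subgroup.map_bot]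
  · rw [← Subgroup.map_sup, hsup, normalizer_map_conj]

end H82.J4A10
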