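import Cfsg.Agent.H82.J4A10.Final

/-!
An action on the codes as permutations.
-/

set_option autoImplicit false

namespace H82.J4A10

open H54.J4A10

variable {B : Type*} [Group B] {act : B → ℕ → ℕ}

theorem CodeAction.exists_perm (h : CodeAction B act) :
    ∃ ρ : B →* Equiv.Perm (Fin 1024), Function.Injective ρ ∧
      (∀ b (x : Fin 1024), ((ρ b x : Fin 1024) : ℕ) = act b (x : ℕ)) ∧
      (∀ b (x y : Fin 1024), ((ρ b ⟨(x : ℕ) ^^^ (y : ℕ), Nat.xor_lt_two_pow (n := 10) x.2 y.2⟩ :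
          Fin 1024) : ℕ) = (ρ b x : ℕ) ^^^ (ρ b y : ℕ)) ∧
      ∀ b (x : Fin 1024), zCode (ρ b x : ℕ) = zCode (x : ℕ) := by
  let F : B → Fin 1024 → Fin 1024 := fun b x => ⟨act b (x : ℕ), h.lt b _ x.2⟩
  have hF1 : ∀ x, F 1 x = x := fun x => Fin.ext (h.one _ x.2)
  have hFm : ∀ b c x, F (b * c) x = F b (F c x) := fun b c x => Fin.ext (h.mul b c _ x.2)
  let E : B → Equiv.Perm (Fin 1024) := fun b =>
    { toFun := F b
      invFun := F b⁻¹
      left_inv := fun x => by rw [← hFm, inv_mul_cancel, hF1]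
      right_inv := fun x => by rw [← hFm, mul_inv_cancel, hF1] }
  refine ⟨{ toFun := E, map_one' := Equiv.ext hF1, map_mul' := fun b c => Equiv.ext (hFm b c) },
    ?_, fun _ _ => rfl, fun b x y => h.xor b _ x.2 _ y.2, fun b x => h.zCode_eq b _ x.2⟩
  refine (injective_iff_map_eq_one _).2 fun b hb => h.faithful b fun a ha => ?_
  exact congrArg Fin.val (Equiv.ext_iff.1 hb ⟨a, ha⟩)

end H82.J4A10
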